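/-
Eigenspaces shifted by an operator commuting up to a root of unity.
Main results: `mul_finrank_le`, `finrank_le_sum_eigen`, `sum_finrank_le`.
-/
import Mathlib
import Cfsg.Agent.EqLemmas

set_option autoImplicit false

namespace Cfsg.Agent.EigenBound

open Module Module.End

variable {F V : Type*} [Field F] [AddCommGroup V] [Module F V] [FiniteDimensional F V]

theorem sum_finrank_le {ι : Type*} [Fintype ι] {p : ι → Submodule F V} (h : iSupIndep p) {E : Submodule F V}
    (hle : ∀ i, p i ≤ E) : ∑ i, finrank F (p i) ≤ finrank F E := by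
  classical
  have key : ∀ s : Finset ι, finrank F (s.sup p : Submodule F V) = ∑ i ∈ s, finrank F (p i) := by
    intro s
    induction s using Finset.induction with
    | empty => simp
    | insert a s ha ih =>
      rw [Finset.sup_insert, Finset.sum_insert ha, ← ih]
      have hd : p a ⊓ s.sup p = ⊥ := disjoint_iff.mp ((h a).mono_right (Finset.sup_le fun i hi =>
        le_iSup₂_of_le i (fun e => ha (by rw [← e]; exact hi)) le_rfl))
      have h2 := Submodule.finrank_sup_add_finrank_inf_eq (p a) (s.sup p)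
      rw [hd, finrank_bot, add_zero] at h2
      exact h2
  rw [← key]
  exact Submodule.finrank_mono (Finset.sup_le fun i _ => hle i)

omit [FiniteDimensional F V] in
/-- Powers of a root of unity of prime order. -/
theorem root_pow_inj {μ : F} {r : ℕ} (hr : r.Prime) (hμ : μ ^ r = 1) (hμ1 : μ ≠ 1) {a b : ℕ} :
    μ ^ a = μ ^ b ↔ a ≡ b [MOD r] := by
  have hord : orderOf μ = r := by
    have : Fact r.Prime := ⟨hr⟩
    exact orderOf_eq_prime hμ hμ1
  have hμ0 : μ ≠ 0 := fun h => by rw [h, zero_pow hr.ne_zero] at hμ; exact zero_ne_one hμ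
  lift μ to Fˣ using hμ0.isUnit
  rw [← Units.val_pow_eq_pow_val, ← Units.val_pow_eq_pow_val, Units.val_inj, pow_eq_pow_iff_modEq,
    ← orderOf_units, hord]

/-- An operator commuting with `g` up to a root of unity of order `r` shifts eigenspaces. -/
theorem mul_finrank_le {g y : Module.End F V} {μ : F} {r : ℕ} (hr : r.Prime) (hμ : μ ^ r = 1) (hμ1 : μ ≠ 1)
    (hy : Function.Injective y) {E : Submodule F V} (hyE : ∀ u ∈ E, y u ∈ E)
    (hgy : ∀ u ∈ E, g (y u) = μ • y (g u)) {c : F} (hc : c ≠ 0) :
    r * finrank F (eigenspace g c ⊓ E : Submodule F V) ≤ finrank F E := by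
  set S : Fin r → Submodule F V := fun i => eigenspace g (c * μ ^ (i : ℕ)) ⊓ E with hS
  have hinj : Function.Injective fun i : Fin r => c * μ ^ (i : ℕ) := fun a b h => by
    have h1 := (root_pow_inj hr hμ hμ1).mp (mul_left_cancel₀ hc h)
    exact Fin.ext (Nat.ModEq.eq_of_lt_of_lt h1 a.2 b.2)
  have hind : iSupIndep S :=
    ((eigenspaces_iSupIndep g).comp hinj).mono fun i => inf_le_left
  have hstep : ∀ i : ℕ, finrank F (eigenspace g c ⊓ E : Submodule F V) ≤
      finrank F (eigenspace g (c * μ ^ i) ⊓ E : Submodule F V) := by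
    intro i
    induction i with
    | zero => rw [pow_zero, mul_one]
    | succ i ih =>
      refine ih.trans ?_
      rw [(Submodule.equivMapOfInjective y hy _).finrank_eq]
      refine Submodule.finrank_mono ?_
      rintro _ ⟨u, hu, rfl⟩
      refine ⟨mem_eigenspace_iff.mpr ?_, hyE u hu.2⟩
      rw [hgy u hu.2, mem_eigenspace_iff.mp hu.1, map_smul, smul_smul, pow_succ]
      ring_nf
  calc r * finrank F (eigenspace g c ⊓ E : Submodule F V)
      = ∑ _i : Fin r, finrank F (eigenspace g c ⊓ E : Submodule F V) := by simp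
    _ ≤ ∑ i, finrank F (S i) := Finset.sum_le_sum fun i _ => hstep i
    _ ≤ _ := sum_finrank_le hind fun i => inf_le_right

/-- An invariant subspace of an operator with `z ^ r = 1` is the sum of its eigenparts. -/
theorem finrank_le_sum_eigen {z : Module.End F V} {ζ : F} {r : ℕ} (hr : r.Prime) (hζ : ζ ^ r = 1) (hζ1 : ζ ≠ 1)
    (hr0 : (r : F) ≠ 0) (hz : z ^ r = 1) {W : Submodule F V} (hW : ∀ u ∈ W, z u ∈ W) :
    finrank F W ≤ ∑ k ∈ Finset.range r, finrank F (W ⊓ eigenspace z (ζ ^ k) : Submodule F V) := by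
  classical
  have hζ0 : ζ ≠ 0 := fun h => by rw [h, zero_pow hr.ne_zero] at hζ; exact zero_ne_one hζ
  have hWp : ∀ i : ℕ, ∀ u ∈ W, (z ^ i) u ∈ W := fun i => by
    induction i with
    | zero => exact fun u hu => hu
    | succ i ih => exact fun u hu => by rw [pow_succ', Module.End.mul_apply]; exact hW _ (ih u hu)
  have hle : W ≤ (Finset.range r).sup fun k => W ⊓ eigenspace z (ζ ^ k) := by
    intro u hu
    set P : ℕ → V := fun k => ∑ i ∈ Finset.range r, ((ζ ^ k)⁻¹) ^ i • (z ^ i) u with hP
    have hPmem : ∀ k, P k ∈ W ⊓ eigenspace z (ζ ^ k) := fun k => by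
      refine ⟨Submodule.sum_mem _ fun i _ => W.smul_mem _ (hWp i u hu), mem_eigenspace_iff.mpr ?_⟩
      simp only [hP, map_sum, map_smul, Finset.smul_sum, smul_smul]
      set f : ℕ → V := fun i => (ζ ^ k * ((ζ ^ k)⁻¹) ^ i) • (z ^ i) u with hf
      have h1 : ∀ i, ((ζ ^ k)⁻¹) ^ i • z ((z ^ i) u) = f (i + 1) := fun i => by
        simp only [hf]
        rw [pow_succ ((ζ ^ k)⁻¹), ← mul_assoc, mul_right_comm, mul_inv_cancel₀ (pow_ne_zero k hζ0), one_mul,
          pow_succ' z, Module.End.mul_apply]
      rw [Finset.sum_congr rfl fun i _ => h1 i]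
      have h2 := Finset.sum_range_succ' f r
      rw [Finset.sum_range_succ] at h2
      have h3 : f r = f 0 := by
        simp only [hf]
        rw [inv_pow, ← pow_mul, mul_comm k r, pow_mul, hζ, one_pow, hz]
        simp
      rw [h3] at h2
      exact (add_right_cancel h2).symm
    have hsum : ∑ k ∈ Finset.range r, P k = (r : F) • u := by
      simp only [hP]
      rw [Finset.sum_comm]
      simp only [← Finset.sum_smul]
      rw [Finset.sum_eq_single 0]
      · simp
      · intro i hi hi0
        have hne : (ζ⁻¹) ^ i ≠ 1 := fun h => by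
          have h1 : ζ ^ i = ζ ^ 0 := by rw [pow_zero, ← inv_eq_one, ← inv_pow]; exact h
          have h2 := Nat.modEq_zero_iff_dvd.mp ((root_pow_inj hr hζ hζ1).mp h1)
          exact hi0 (Nat.eq_zero_of_dvd_of_lt h2 (Finset.mem_range.mp hi))
        have h1 : ∑ k ∈ Finset.range r, ((ζ ^ k)⁻¹) ^ i = 0 := by
          have h2 : ∀ k, ((ζ ^ k)⁻¹) ^ i = ((ζ⁻¹) ^ i) ^ k := fun k => by
            rw [inv_pow, inv_pow, inv_pow, ← pow_mul, ← pow_mul, mul_comm]
          simp only [h2]
          rw [geom_sum_eq hne, ← pow_mul, mul_comm, pow_mul, inv_pow ζ r, hζ, inv_one, one_pow, sub_self, zero_div]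
        rw [h1, zero_smul]
      · intro h; exact absurd (Finset.mem_range.mpr hr.pos) h
    have hmem : (r : F) • u ∈ (Finset.range r).sup fun k => W ⊓ eigenspace z (ζ ^ k) := by
      rw [← hsum]
      exact Submodule.sum_mem _ fun k hk => Finset.le_sup (f := fun k => W ⊓ eigenspace z (ζ ^ k)) hk (hPmem k)
    exact (Submodule.smul_mem_iff _ hr0).mp hmem
  refine (Submodule.finrank_mono hle).trans ?_
  generalize Finset.range r = s
  induction s using Finset.induction with
  | empty => simp
  | insert a s ha ih =>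
    rw [Finset.sup_insert, Finset.sum_insert ha]
    exact (Submodule.finrank_add_le_finrank_add_finrank _ _).trans (Nat.add_le_add_left ih _)

end Cfsg.Agent.EigenBound
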