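/-
Eigenspaces of elements normalising an absolutely irreducible group of symplectic type.
Main results: `Ctx.two`, `Ctx.odd`.
-/
import Cfsg.Agent.EqLemmas
import Cfsg.Agent.Lib.EigenBound.Linear
import Cfsg.Prelude.Def_GeometricClasses

set_option autoImplicit false

namespace Cfsg.Agent.EigenBound

open Matrix Module Module.End
open scoped commutatorElement

variable {F : Type*} [Field F] [Fintype F] {n : ℕ}

local notation "G" => GL (Fin n) F
local notation "V" => (Fin n → F)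
local notation "Z" => Cfsg.Geo.scalars (Fin n) F

omit [Fintype F] in
theorem scalar_comm {s : G} (hs : s ∈ Z) (x : G) : s * x = x * s := by
  obtain ⟨a, ha⟩ := (Cfsg.Geo.mem_scalars_iff _).mp hs
  refine Units.ext ?_
  rw [Units.val_mul, Units.val_mul, ha, Matrix.smul_mul, Matrix.mul_smul, one_mul, mul_one]

/-- The linear map of an element. -/
def op (x : G) : Module.End F V := Matrix.toLin' (x : Matrix (Fin n) (Fin n) F)

omit [Fintype F] in
theorem op_mul (x y : G) (u : V) : op (x * y) u = op x (op y u) := by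
  simp [op, Matrix.mulVec_mulVec]

omit [Fintype F] in
theorem op_inv_self (x : G) (u : V) : op x⁻¹ (op x u) = u := by
  rw [← op_mul, inv_mul_cancel]; simp [op]

omit [Fintype F] in
theorem op_self_inv (x : G) (u : V) : op x (op x⁻¹ u) = u := by
  rw [← op_mul, mul_inv_cancel]; simp [op]

omit [Fintype F] in
theorem op_injective (x : G) : Function.Injective (op x) := Function.LeftInverse.injective (op_inv_self x)

omit [Fintype F] in
theorem op_pow (x : G) (k : ℕ) : op (x ^ k) = op x ^ k := by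
  induction k with
  | zero => simp [op, Module.End.one_eq_id]
  | succ k ih =>
    refine LinearMap.ext fun u => ?_
    rw [pow_succ, op_mul, ih, pow_succ, Module.End.mul_apply]

omit [Fintype F] in
/-- A scalar with the root it stands for. -/
theorem exists_root {s : G} (hs : s ∈ Z) (hn : 0 < n) {k : ℕ} (hk : s ^ k = 1) (h1 : s ≠ 1) :
    ∃ μ : F, μ ^ k = 1 ∧ μ ≠ 1 ∧ ∀ u : V, op s u = μ • u := by
  obtain ⟨a, ha⟩ := (Cfsg.Geo.mem_scalars_iff _).mp hs
  refine ⟨a, ?_, fun h => h1 (Units.ext (by rw [ha, h, one_smul, Units.val_one])), fun u => by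
    simp [op, ha, Matrix.smul_mulVec]⟩
  have h2 := congrArg (fun x : G => (x : Matrix (Fin n) (Fin n) F) ⟨0, hn⟩ ⟨0, hn⟩) hk
  simpa [ha, smul_pow] using h2

/-- `S` is of symplectic type modulo scalars and `g` normalises it. -/
structure Ctx (S : Subgroup (GL (Fin n) F)) (g : GL (Fin n) F) (r w : ℕ) : Prop where
  pos : 0 < n
  r_prime : r.Prime
  w_prime : w.Prime
  scal : Cfsg.Geo.scalars (Fin n) F ≤ S
  conj : ∀ x ∈ S, g * x * g⁻¹ ∈ S
  comm : ∀ x ∈ S, ∀ y ∈ S, ⁅x, y⁆ ∈ Cfsg.Geo.scalars (Fin n) F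
  comm_pow : ∀ x ∈ S, ∀ y ∈ S, ⁅x, y⁆ ^ r = 1
  nondeg : ∀ x ∈ S, (∀ y ∈ S, ⁅x, y⁆ = 1) → x ∈ Cfsg.Geo.scalars (Fin n) F
  moved : ∃ x ∈ S, ⁅g, x⁆ ≠ 1
  pow_g : g ^ w = 1

namespace Ctx

variable {S : Subgroup (GL (Fin n) F)} {g : GL (Fin n) F} {r w : ℕ} (C : Ctx S g r w)
include C

theorem tau_mem {x : G} (hx : x ∈ S) : ⁅g, x⁆ ∈ S := by
  rw [commutatorElement_def]; exact S.mul_mem (C.conj x hx) (S.inv_mem hx)

theorem comm_mul_left {a b c : G} (ha : a ∈ S) (hb : b ∈ S) (hc : c ∈ S) : ⁅a * b, c⁆ = ⁅a, c⁆ * ⁅b, c⁆ := by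
  have h : ⁅a * b, c⁆ = a * ⁅b, c⁆ * a⁻¹ * ⁅a, c⁆ := by
    simp only [commutatorElement_def]; group
  rw [h, ← scalar_comm (C.comm b hb c hc) a, mul_inv_cancel_right, scalar_comm (C.comm b hb c hc)]

theorem comm_mul_right {a b c : G} (ha : a ∈ S) (hb : b ∈ S) (hc : c ∈ S) : ⁅a, b * c⁆ = ⁅a, b⁆ * ⁅a, c⁆ := by
  rw [← commutatorElement_inv, C.comm_mul_left hb hc ha, _root_.mul_inv_rev, commutatorElement_inv,
    commutatorElement_inv, scalar_comm (C.comm a ha c hc)]

theorem comm_pow_left {a c : G} (ha : a ∈ S) (hc : c ∈ S) (k : ℕ) : ⁅a ^ k, c⁆ = ⁅a, c⁆ ^ k := by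
  induction k with
  | zero => simp
  | succ k ih => rw [pow_succ, C.comm_mul_left (S.pow_mem ha k) ha hc, ih, pow_succ]

omit C in
theorem comm_scalar_left {s : G} (hs : s ∈ Z) (x : G) : ⁅s, x⁆ = 1 := by
  rw [commutatorElement_eq_one_iff_mul_comm]; exact scalar_comm hs x

theorem pow_r_scalar {x : G} (hx : x ∈ S) : x ^ r ∈ Z :=
  C.nondeg _ (S.pow_mem hx r) fun y hy => by rw [C.comm_pow_left hx hy, C.comm_pow x hx y hy]

theorem tau_mul {u v : G} (hu : u ∈ S) (hv : v ∈ S) :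
    ⁅g, u * v⁆ = ⁅u, ⁅g, v⁆⁆ * (⁅g, u⁆ * ⁅g, v⁆) := by
  have h1 : ⁅g, u * v⁆ = ⁅g, u⁆ * (u * ⁅g, v⁆ * u⁻¹) := by simp only [commutatorElement_def]; group
  rw [h1, show u * ⁅g, v⁆ * u⁻¹ = ⁅u, ⁅g, v⁆⁆ * ⁅g, v⁆ by rw [commutatorElement_def u]; group,
    ← mul_assoc, ← scalar_comm (C.comm u hu _ (C.tau_mem hv)), mul_assoc]

omit C in
theorem iter {h b v : G} (h1 : h * v * h⁻¹ = b * v) (h2 : h * b * h⁻¹ = b) (k : ℕ) :
    h ^ k * v * (h ^ k)⁻¹ = b ^ k * v := by
  induction k with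
  | zero => simp
  | succ k ih =>
    have h3 : h * b ^ k * h⁻¹ = b ^ k := by rw [← conj_pow, h2]
    calc h ^ (k + 1) * v * (h ^ (k + 1))⁻¹ = h * (h ^ k * v * (h ^ k)⁻¹) * h⁻¹ := by rw [pow_succ']; group
      _ = (h * b ^ k * h⁻¹) * (h * v * h⁻¹) := by rw [ih]; group
      _ = _ := by rw [h3, h1, pow_succ, mul_assoc]

theorem tau_pow {y : G} (h2 : ⁅g, ⁅g, y⁆⁆ = 1) : ⁅g, y⁆ ^ w = 1 := by
  have h := iter (h := g) (b := ⁅g, y⁆) (v := y) (by rw [commutatorElement_def]; group)
    (mul_inv_eq_iff_eq_mul.mpr (commutatorElement_eq_one_iff_mul_comm.mp h2)) w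
  rw [C.pow_g, one_mul, inv_one, mul_one] at h
  exact (mul_eq_right.mp h.symm)

/-- The eigenspace bound for an element with a commutator of order `w`. -/
theorem shift {x : G} (hs : ⁅g, x⁆ ∈ Z) (h1 : ⁅g, x⁆ ≠ 1) (c : F) :
    w * finrank F (eigenspace (op g) c) ≤ n := by
  rcases eq_or_ne c 0 with rfl | hc
  · rw [show eigenspace (op g) (0 : F) = ⊥ from (Submodule.eq_bot_iff _).mpr fun u hu => op_injective g (by
      rw [mem_eigenspace_iff.mp hu, zero_smul, map_zero]), finrank_bot, mul_zero]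
    exact Nat.zero_le _
  obtain ⟨μ, hμ, hμ1, hμs⟩ := exists_root hs C.pos
    (C.tau_pow (commutatorElement_eq_one_iff_mul_comm.mpr (scalar_comm hs g).symm)) h1
  have h := mul_finrank_le (g := op g) (y := op x) C.w_prime hμ hμ1 (op_injective x) (E := ⊤)
    (fun _ _ => trivial) (fun u _ => by
      rw [← op_mul, show g * x = ⁅g, x⁆ * (x * g) by rw [commutatorElement_def]; group, op_mul, hμs, op_mul]) hc
  rw [inf_top_eq, finrank_top, Module.finrank_fintype_fun_eq_card, Fintype.card_fin] at h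
  exact h

/-- Eigenspaces of a non-scalar element of `S`. -/
theorem eig_le {y : G} (hy : y ∈ S) (hys : y ∉ Z) {c : F} (hc : c ≠ 0) :
    r * finrank F (eigenspace (op y) c) ≤ n := by
  obtain ⟨z, hz, hyz⟩ : ∃ z ∈ S, ⁅y, z⁆ ≠ 1 := by
    by_contra h
    simp only [not_exists, not_and, not_not] at h
    exact hys (C.nondeg y hy h)
  obtain ⟨μ, hμ, hμ1, hμs⟩ := exists_root (C.comm y hy z hz) C.pos (C.comm_pow y hy z hz) hyz
  have h := mul_finrank_le (g := op y) (y := op z) C.r_prime hμ hμ1 (op_injective z) (E := ⊤)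
    (fun _ _ => trivial) (fun u _ => by
      rw [← op_mul, show y * z = ⁅y, z⁆ * (z * y) by rw [commutatorElement_def]; group, op_mul, hμs, op_mul]) hc
  rw [inf_top_eq, finrank_top, Module.finrank_fintype_fun_eq_card, Fintype.card_fin] at h
  exact h

omit C in
/-- An eigenspace meets its translate in common fixed vectors. -/
theorem translate_le (x : G) {c : F} (hc : c ≠ 0) :
    2 * finrank F (eigenspace (op g) c) ≤
      n + finrank F ((eigenspace (op g) c ⊓ eigenspace (op ⁅g, x⁆) 1 : Submodule F V)) := by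
  set W := eigenspace (op g) c
  have h1 := Submodule.finrank_sup_add_finrank_inf_eq W (W.map (op x))
  rw [← (Submodule.equivMapOfInjective (op x) (op_injective x) W).finrank_eq] at h1
  have h2 : finrank F (W ⊔ W.map (op x) : Submodule F V) ≤ n :=
    (Submodule.finrank_le _).trans (by simp)
  have h3 : finrank F (W ⊓ W.map (op x) : Submodule F V) ≤
      finrank F (W ⊓ eigenspace (op ⁅g, x⁆) 1 : Submodule F V) := by
    refine Submodule.finrank_mono ?_
    rintro v ⟨hv, u, hu, rfl⟩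
    refine ⟨hv, mem_eigenspace_iff.mpr ?_⟩
    have hgu : op g⁻¹ u = c⁻¹ • u := by
      have h := congrArg (op g⁻¹) (mem_eigenspace_iff.mp hu)
      rw [op_inv_self, map_smul] at h
      conv_rhs => rw [h, smul_smul, inv_mul_cancel₀ hc, one_smul]
    rw [commutatorElement_def, op_mul, op_inv_self, op_mul, op_mul, hgu, map_smul, map_smul,
      mem_eigenspace_iff.mp hv, smul_smul, inv_mul_cancel₀ hc, one_smul]
  omega

/-- A commutator not commuting with its conjugate, for coprime orders. -/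
theorem exists_noncomm (hw : Odd w) (hwr : w ≠ r) (hcl : ∀ x ∈ S, ⁅g, x⁆ ∈ Z → ⁅g, x⁆ = 1) :
    ∃ x ∈ S, ⁅⁅g, x⁆, g * ⁅g, x⁆ * g⁻¹⁆ ≠ 1 := by
  by_contra hcon
  simp only [not_exists, not_and, not_not] at hcon
  set σ : G ≃* G := MulAut.conj g with hσ
  have hσd : ∀ a, σ a = g * a * g⁻¹ := fun a => rfl
  have hσs : ∀ a, a ∈ S → σ a ∈ S := fun a ha => C.conj a ha
  have hσz : ∀ s, s ∈ Z → σ s = s := fun s hs => by
    rw [hσd, ← scalar_comm hs g, mul_inv_cancel_right]
  have hσi : ∀ a, a ∈ S → σ.symm a ∈ S := fun a ha => by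
    obtain ⟨k, hk⟩ : ∃ k, g⁻¹ = g ^ k := ⟨w - 1, inv_eq_of_mul_eq_one_right (by
      rw [← pow_succ', Nat.sub_add_cancel C.w_prime.one_lt.le, C.pow_g])⟩
    show g⁻¹ * a * g ∈ S
    rw [show g⁻¹ * a * g = g⁻¹ * a * (g⁻¹)⁻¹ by rw [inv_inv], hk]
    clear hk
    induction k with
    | zero => simpa using ha
    | succ k ih =>
      rw [show g ^ (k + 1) * a * (g ^ (k + 1))⁻¹ = g * (g ^ k * a * (g ^ k)⁻¹) * g⁻¹ by rw [pow_succ']; group]
      exact C.conj _ ih
  have hD : ∀ a b, a ∈ S → b ∈ S → ⁅σ a, b⁆ = ⁅a, σ.symm b⁆ := fun a b ha hb => by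
    rw [← hσz _ (C.comm a ha _ (hσi b hb)), map_commutatorElement, MulEquiv.apply_symm_apply]
  have hdiff : ∀ v ∈ S, ⁅g, v⁆ = 1 := by
    intro v hv
    set b := ⁅g, v⁆ with hb
    have hbS := C.tau_mem hv
    set X := σ b * (σ.symm b)⁻¹ with hX
    have hXS : X ∈ S := S.mul_mem (hσs b hbS) (S.inv_mem (hσi b hbS))
    have hanti : ∀ u ∈ S, ⁅⁅g, u⁆, X⁆ = 1 := by
      intro u hu
      set a := ⁅g, u⁆
      have haS := C.tau_mem hu
      have hs := C.comm u hu b hbS
      have h := hcon (u * v) (S.mul_mem hu hv)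
      rw [C.tau_mul hu hv, ← hσd, map_mul, hσz _ hs,
        C.comm_mul_left (C.scal hs) (S.mul_mem haS hbS) (S.mul_mem (C.scal hs) (hσs _ (S.mul_mem haS hbS))),
        comm_scalar_left hs, one_mul,
        C.comm_mul_right (S.mul_mem haS hbS) (C.scal hs) (hσs _ (S.mul_mem haS hbS)),
        ← commutatorElement_inv _ (a * b), comm_scalar_left hs, inv_one, one_mul, map_mul,
        C.comm_mul_left haS hbS (S.mul_mem (hσs _ haS) (hσs _ hbS)),
        C.comm_mul_right haS (hσs _ haS) (hσs _ hbS), C.comm_mul_right hbS (hσs _ haS) (hσs _ hbS)] at h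
      have ha1 : ⁅a, σ a⁆ = 1 := hcon u hu
      have hb1 : ⁅b, σ b⁆ = 1 := hcon v hv
      rw [ha1, hb1, one_mul, mul_one] at h
      rw [hX, C.comm_mul_right haS (hσs b hbS) (S.inv_mem (hσi b hbS)), eq_inv_of_mul_eq_one_left h,
        commutatorElement_inv, hD a b haS hbS, ← C.comm_mul_right haS (hσi b hbS) (S.inv_mem (hσi b hbS)),
        mul_inv_cancel, commutatorElement_one_right]
    have hsc : σ.symm X * X⁻¹ ∈ Z := by
      refine C.nondeg _ (S.mul_mem (hσi X hXS) (S.inv_mem hXS)) fun u hu => ?_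
      rw [← commutatorElement_inv u, inv_eq_one, C.comm_mul_right hu (hσi X hXS) (S.inv_mem hXS), ← hD u X hu hXS]
      have h := hanti u hu
      rw [show ⁅g, u⁆ = σ u * u⁻¹ from rfl, C.comm_mul_left (hσs u hu) (S.inv_mem hu) hXS] at h
      have h2 : ⁅u⁻¹, X⁆ = ⁅u, X⁻¹⁆ := by
        have e1 : ⁅u⁻¹, X⁆ * ⁅u, X⁆ = 1 := by
          rw [← C.comm_mul_left (S.inv_mem hu) hu hXS, inv_mul_cancel, commutatorElement_one_left]
        have e2 : ⁅u, X⁻¹⁆ * ⁅u, X⁆ = 1 := by
          rw [← C.comm_mul_right hu (S.inv_mem hXS) hXS, inv_mul_cancel, commutatorElement_one_right]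
        exact mul_right_cancel (e1.trans e2.symm)
      rw [h2] at h
      exact h
    have hX1 : ⁅g, X⁆ = 1 := by
      refine hcl X hXS ?_
      have h1 : σ X * X⁻¹ = (σ.symm X * X⁻¹)⁻¹ := by
        have h2 := hσz _ hsc
        rw [map_mul, MulEquiv.apply_symm_apply, map_inv] at h2
        rw [← h2]; group
      rw [show ⁅g, X⁆ = σ X * X⁻¹ from rfl, h1]
      exact inv_mem hsc
    have hgX : g * X * g⁻¹ = X := mul_inv_eq_iff_eq_mul.mpr (commutatorElement_eq_one_iff_mul_comm.mp hX1)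
    have hgg : g * g * b * (g * g)⁻¹ = X * b := by
      conv_rhs => rw [← hgX, hX, show σ.symm b = g⁻¹ * b * g from rfl, hσd b]
      group
    have hggX : g * g * X * (g * g)⁻¹ = X := by
      rw [show g * g * X * (g * g)⁻¹ = g * (g * X * g⁻¹) * g⁻¹ by group, hgX, hgX]
    have hit := fun k => iter hgg hggX k
    have hXw : X ^ w = 1 := by
      have h := hit w
      rw [show (g * g) ^ w = 1 by rw [← sq, ← pow_mul, mul_comm, pow_mul, C.pow_g, one_pow], one_mul, inv_one,
        mul_one] at h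
      exact mul_eq_right.mp h.symm
    have hcop : ∀ y ∈ S, y ^ w = 1 → y ∈ Z := fun y hy hyw => by
      rw [← QuotientGroup.eq_one_iff]
      have e1 : (y : G ⧸ Z) ^ r = 1 := by
        rw [← QuotientGroup.mk_pow, QuotientGroup.eq_one_iff]; exact C.pow_r_scalar hy
      have e2 : (y : G ⧸ Z) ^ w = 1 := by rw [← QuotientGroup.mk_pow, hyw, QuotientGroup.mk_one]
      have h := pow_gcd_eq_one.mpr ⟨e1, e2⟩
      rwa [show Nat.gcd r w = 1 from (Nat.coprime_primes C.r_prime C.w_prime).mpr (Ne.symm hwr), pow_one] at h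
    have hXZ := hcop X hXS hXw
    have hb1 : ⁅g, b⁆ = 1 := by
      refine hcl b hbS ?_
      obtain ⟨j, hj⟩ := hw
      have h := hit (j + 1)
      rw [show (g * g) ^ (j + 1) = g by
        rw [← sq, ← pow_mul, show 2 * (j + 1) = w + 1 by omega, pow_succ, C.pow_g, one_mul]] at h
      rw [show ⁅g, b⁆ = g * b * g⁻¹ * b⁻¹ from rfl, h, mul_inv_cancel_right]
      exact pow_mem hXZ _
    exact hcl v hv (hcop b hbS (C.tau_pow hb1))
  obtain ⟨x, hx, h⟩ := C.moved
  exact h (hdiff x hx)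

/-- For `w = r` some commutator is centralised by `g`. -/
theorem exists_fixed (hwr : w = r) (hcl : ∀ x ∈ S, ⁅g, x⁆ ∈ Z → ⁅g, x⁆ = 1) :
    ∃ y ∈ S, ⁅g, y⁆ ∉ Z ∧ ⁅g, ⁅g, y⁆⁆ = 1 := by
  classical
  have : Fact r.Prime := ⟨C.r_prime⟩
  let τ : S →* G ⧸ Z := MonoidHom.mk' (fun x => ((⁅g, (x : G)⁆ : G) : G ⧸ Z)) fun a b => by
    rw [Subgroup.coe_mul, C.tau_mul a.2 b.2, QuotientGroup.mk_mul,
      (QuotientGroup.eq_one_iff _).mpr (C.comm _ a.2 _ (C.tau_mem b.2)), one_mul, QuotientGroup.mk_mul]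
  let f₀ : τ.range → τ.range := fun k => ⟨(g : G ⧸ Z) * k * (g : G ⧸ Z)⁻¹, by
    obtain ⟨x, hx⟩ := k.2
    refine ⟨⟨g * x * g⁻¹, C.conj x x.2⟩, ?_⟩
    rw [← hx]
    show ((⁅g, g * x * g⁻¹⁆ : G) : G ⧸ Z) = _
    rw [show ⁅g, g * (x : G) * g⁻¹⁆ = g * ⁅g, (x : G)⁆ * g⁻¹ by simp only [commutatorElement_def]; group]
    rfl⟩
  have hinj : Function.Injective f₀ := fun a b h => Subtype.ext (by
    have := congrArg Subtype.val h
    simpa [f₀] using this)
  let f : Equiv.Perm τ.range := Equiv.ofBijective f₀ hinj.bijective_of_finite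
  have hfpow : ∀ k a, ((f ^ k) a : G ⧸ Z) = (g : G ⧸ Z) ^ k * a * ((g : G ⧸ Z) ^ k)⁻¹ := by
    intro k
    induction k with
    | zero => simp
    | succ k ih =>
      intro a
      rw [pow_succ', Equiv.Perm.mul_apply]
      show (g : G ⧸ Z) * _ * (g : G ⧸ Z)⁻¹ = _
      rw [ih, pow_succ']
      group
  have hf : f ^ r ^ 1 = 1 := by
    refine Equiv.ext fun a => Subtype.ext ?_
    rw [pow_one, hfpow, ← QuotientGroup.mk_pow, ← hwr, C.pow_g]
    simp
  obtain ⟨x₀, hx₀, hne⟩ := C.moved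
  have hdvd : r ∣ Fintype.card τ.range := by
    set k : τ.range := ⟨τ ⟨x₀, hx₀⟩, ⟨_, rfl⟩⟩ with hk
    have hk1 : k ≠ 1 := fun h => hne (hcl x₀ hx₀ ((QuotientGroup.eq_one_iff _).mp (congrArg Subtype.val h)))
    have hkr : k ^ r = 1 := Subtype.ext (by
      show ((⁅g, x₀⁆ : G) : G ⧸ Z) ^ r = 1
      rw [← QuotientGroup.mk_pow, QuotientGroup.eq_one_iff]
      exact C.pow_r_scalar (C.tau_mem hx₀))
    rw [← orderOf_eq_prime hkr hk1]
    exact orderOf_dvd_card
  obtain ⟨k, hk, hk1⟩ := Equiv.Perm.exists_fixed_point_of_prime' hdvd hf (a := 1) (Subtype.ext (by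
    show (g : G ⧸ Z) * 1 * (g : G ⧸ Z)⁻¹ = 1
    simp))
  obtain ⟨y, hy⟩ := k.2
  refine ⟨y, y.2, fun hs => hk1 (Subtype.ext (hy.symm.trans ((QuotientGroup.eq_one_iff _).mpr hs))), ?_⟩
  refine hcl _ (C.tau_mem y.2) ?_
  have hfix : (g : G ⧸ Z) * (k : G ⧸ Z) * (g : G ⧸ Z)⁻¹ = k := congrArg Subtype.val hk
  rw [← hy] at hfix
  rw [← QuotientGroup.eq_one_iff]
  show ((g * ⁅g, (y : G)⁆ * g⁻¹ * ⁅g, (y : G)⁆⁻¹ : G) : G ⧸ Z) = 1
  rw [QuotientGroup.mk_mul, QuotientGroup.mk_mul, QuotientGroup.mk_mul, QuotientGroup.mk_inv,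
    QuotientGroup.mk_inv, show ((g : G ⧸ Z) * ((⁅g, (y : G)⁆ : G) : G ⧸ Z) * (g : G ⧸ Z)⁻¹) = _ from hfix]
  exact mul_inv_cancel _

omit C in
theorem tri_two (k : ℕ) : 2 * (∑ i ∈ Finset.range (k + 1), i) = k * (k + 1) := by
  induction k with
  | zero => simp
  | succ k ih => rw [Finset.sum_range_succ, mul_add, ih]; ring

/-- The two bounds for `w = r` odd. -/
theorem same (hodd : Odd r) (hwr : w = r) (hcl : ∀ x ∈ S, ⁅g, x⁆ ∈ Z → ⁅g, x⁆ = 1) {c : F} (hc : c ≠ 0) :
    r * (r * finrank F (eigenspace (op g) c)) ≤ (2 * r - 1) * n ∨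
      r * finrank F (eigenspace (op g) c) ≤ 2 * n := by
  classical
  obtain ⟨y, hy, hzs, hz1⟩ := C.exists_fixed hwr hcl
  set z := ⁅g, y⁆ with hz
  have hzS := C.tau_mem hy
  have hgz : g * z = z * g := commutatorElement_eq_one_iff_mul_comm.mp hz1
  have hgy : g * y = z * (y * g) := by rw [hz, commutatorElement_def]; group
  have hzr : op z ^ r = 1 := by
    rw [← op_pow, ← hwr, C.tau_pow hz1]; simp [op, Module.End.one_eq_id]
  set W := eigenspace (op g) c with hW
  have hWz : ∀ u ∈ W, op z u ∈ W := fun u hu => mem_eigenspace_iff.mpr (by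
    rw [← op_mul, hgz, op_mul, mem_eigenspace_iff.mp hu, map_smul])
  have hr0 : ∀ μ : F, μ ^ r = 1 → μ ≠ 1 → (r : F) ≠ 0 := fun μ hμ hμ1 h0 => by
    obtain ⟨p, hp⟩ := CharP.exists F
    have hd := (CharP.cast_eq_zero_iff F p r).mp h0
    rcases (Nat.dvd_prime C.r_prime).mp hd with h | h
    · subst h; exact CharP.char_ne_one F 1 rfl
    · subst h
      have : Fact p.Prime := ⟨C.r_prime⟩
      exact hμ1 (frobenius_inj F p (by rw [frobenius_def, hμ, frobenius_def, one_pow]))
  by_cases hzy : ⁅z, y⁆ = 1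
  · obtain ⟨x, hx, hzx⟩ : ∃ x ∈ S, ⁅z, x⁆ ≠ 1 := by
      by_contra h
      simp only [not_exists, not_and, not_not] at h
      exact hzs (C.nondeg z hzS h)
    obtain ⟨ζ, hζ, hζ1, -⟩ := exists_root (C.comm z hzS x hx) C.pos (C.comm_pow z hzS x hx) hzx
    have hζ0 : ζ ≠ 0 := fun h => by rw [h, zero_pow C.r_prime.ne_zero] at hζ; exact zero_ne_one hζ
    have hsum := finrank_le_sum_eigen C.r_prime hζ hζ1 (hr0 ζ hζ hζ1) hzr hWz
    have hk : ∀ k ∈ Finset.range r, r * (r * finrank F (W ⊓ eigenspace (op z) (ζ ^ k) : Submodule F V)) ≤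
        if k = 0 then r * n else n := by
      intro k hk
      have hE := C.eig_le hzS hzs (c := ζ ^ k) (pow_ne_zero _ hζ0)
      split_ifs with hk0
      · exact Nat.mul_le_mul_left r ((Nat.mul_le_mul_left r (Submodule.finrank_mono inf_le_right)).trans hE)
      refine (Nat.mul_le_mul_left r ?_).trans hE
      have hyE : ∀ u ∈ eigenspace (op z) (ζ ^ k), op y u ∈ eigenspace (op z) (ζ ^ k) := fun u hu =>
        mem_eigenspace_iff.mpr (by
          rw [← op_mul, commutatorElement_eq_one_iff_mul_comm.mp hzy, op_mul, mem_eigenspace_iff.mp hu, map_smul])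
      refine mul_finrank_le C.r_prime (μ := ζ ^ k) (by rw [← pow_mul, mul_comm, pow_mul, hζ, one_pow])
        (fun h => hk0 ?_) (op_injective y) hyE (fun u hu => ?_) hc
      · rw [← pow_zero ζ] at h
        exact Nat.ModEq.eq_of_lt_of_lt ((root_pow_inj C.r_prime hζ hζ1).mp h) (Finset.mem_range.mp hk) C.r_prime.pos
      · have hgu : op g u ∈ eigenspace (op z) (ζ ^ k) := mem_eigenspace_iff.mpr (by
          rw [← op_mul, ← hgz, op_mul, mem_eigenspace_iff.mp hu, map_smul])
        rw [← op_mul, hgy, op_mul, op_mul, mem_eigenspace_iff.mp (hyE _ hgu)]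
    refine Or.inl ?_
    have h1 := Nat.mul_le_mul_left r (Nat.mul_le_mul_left r hsum)
    rw [Finset.mul_sum, Finset.mul_sum] at h1
    refine h1.trans ((Finset.sum_le_sum hk).trans ?_)
    obtain ⟨j, hj⟩ : ∃ j, r = j + 1 := ⟨r - 1, by have := C.r_prime.pos; omega⟩
    rw [hj, Finset.sum_range_succ', if_pos rfl, Finset.sum_congr rfl fun i _ => if_neg (Nat.succ_ne_zero i),
      Finset.sum_const, Finset.card_range, smul_eq_mul, show 2 * (j + 1) - 1 = j + (j + 1) by omega]
    exact le_of_eq (by ring)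
  · obtain ⟨η, hη, hη1, hηs⟩ := exists_root (C.comm z hzS y hy) C.pos (C.comm_pow z hzS y hy) hzy
    have hη0 : η ≠ 0 := fun h => by rw [h, zero_pow C.r_prime.ne_zero] at hη; exact zero_ne_one hη
    set T : ℕ → ℕ := fun k => ∑ i ∈ Finset.range (k + 1), i with hT
    have hzy' : ∀ u, op z (op y u) = η • op y (op z u) := fun u => by
      rw [← op_mul, show z * y = ⁅z, y⁆ * (y * z) by simp only [commutatorElement_def]; group, op_mul, hηs, op_mul]
    have hzk : ∀ k u, op z (op (y ^ k) u) = η ^ k • op (y ^ k) (op z u) := by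
      intro k
      induction k with
      | zero => intro u; simp [op]
      | succ k ih => intro u; rw [pow_succ', op_mul, hzy', ih, map_smul, smul_smul, op_mul, pow_succ']
    set E := eigenspace (op z) (1 : F) with hE
    have hgE : ∀ u ∈ E, op g u ∈ E := fun u hu => mem_eigenspace_iff.mpr (by
      rw [← op_mul, ← hgz, op_mul, mem_eigenspace_iff.mp hu, map_smul])
    have hgk : ∀ k, ∀ u ∈ E, op g (op (y ^ k) u) = η ^ T k • op (y ^ k) (op g u) := by
      intro k
      induction k with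
      | zero => intro u _; simp [op, hT]
      | succ k ih =>
        intro u hu
        have hgu := mem_eigenspace_iff.mp (hgE u hu)
        rw [pow_succ', op_mul, ← op_mul g y, hgy, op_mul z, op_mul y g, ih u hu, map_smul, map_smul,
          ← op_mul y (y ^ k), ← pow_succ', hzk, hgu, one_smul, smul_smul, ← pow_add]
        congr 2
        simp only [hT]
        rw [Finset.sum_range_succ _ (k + 1)]
    let d : ℕ → ℕ := fun k => finrank F (eigenspace (op g) (c * (η ^ T k)⁻¹) ⊓ E : Submodule F V)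
    have hk : ∀ k, finrank F (W ⊓ eigenspace (op z) (η ^ k) : Submodule F V) ≤ d k := fun k => by
      rw [(Submodule.equivMapOfInjective (op (y ^ k)⁻¹) (op_injective _) _).finrank_eq]
      refine Submodule.finrank_mono ?_
      rintro _ ⟨v, ⟨hv1, hv2⟩, rfl⟩
      have hu2 : op (y ^ k)⁻¹ v ∈ E := mem_eigenspace_iff.mpr (by
        refine op_injective (y ^ k) ?_
        have h := hzk k (op (y ^ k)⁻¹ v)
        rw [op_self_inv, mem_eigenspace_iff.mp hv2] at h
        rw [one_smul, op_self_inv]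
        exact (smul_right_injective V (pow_ne_zero k hη0) h).symm)
      refine ⟨mem_eigenspace_iff.mpr (op_injective (y ^ k) ?_), hu2⟩
      have h := hgk k _ hu2
      rw [op_self_inv, mem_eigenspace_iff.mp hv1] at h
      rw [map_smul, op_self_inv]
      refine smul_right_injective V (pow_ne_zero (T k) hη0) ?_
      simp only
      rw [← h, smul_smul]
      congr 1
      field_simp
    have : Fact r.Prime := ⟨C.r_prime⟩
    obtain ⟨h, hrh⟩ := hodd
    have h2z : (2 : ZMod r) ≠ 0 := fun h0 => by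
      have h1 : ((2 : ℕ) : ZMod r) = 0 := by exact_mod_cast h0
      have := Nat.le_of_dvd two_pos ((ZMod.natCast_eq_zero_iff _ _).mp h1)
      have := C.r_prime.two_le
      omega
    have hTz : ∀ k, (2 : ZMod r) * (T k : ZMod r) = k * (k + 1) := fun k => by
      have := congrArg (fun m : ℕ => (m : ZMod r)) (tri_two k)
      push_cast at this
      simpa [hT] using this
    have hval : ∀ a b, η ^ T a = η ^ T b ↔ (a : ZMod r) * (a + 1) = b * (b + 1) := fun a b => by
      rw [root_pow_inj C.r_prime hη hη1, ← ZMod.natCast_eq_natCast_iff, ← hTz, ← hTz, mul_right_inj' h2z]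
    have hsym : ∀ j < h, d (h + 1 + j) = d (h - 1 - j) := fun j hj => by
      have e : η ^ T (h + 1 + j) = η ^ T (h - 1 - j) := by
        rw [hval, Nat.sub_sub, Nat.cast_sub (by omega)]
        have hr' := congrArg (fun m : ℕ => (m : ZMod r)) hrh.symm
        simp only [ZMod.natCast_self] at hr'
        push_cast at hr' ⊢
        linear_combination (2 * (j : ZMod r) + 2) * hr'
      simp only [d]
      rw [e]
    have hhalf : r * ∑ k ∈ Finset.range (h + 1), d k ≤ n := by
      refine le_trans (Nat.mul_le_mul_left r ?_) (C.eig_le hzS hzs one_ne_zero)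
      rw [Finset.sum_range]
      refine sum_finrank_le (p := fun k : Fin (h + 1) => eigenspace (op g) (c * (η ^ T k)⁻¹) ⊓ E) ?_
        fun i => inf_le_right
      refine ((eigenspaces_iSupIndep (op g)).comp (f := fun k : Fin (h + 1) => c * (η ^ T k)⁻¹)
        fun a b hab => ?_).mono fun i => inf_le_left
      have h1 := (hval _ _).mp (inv_injective (mul_left_cancel₀ hc hab))
      have h2 : ((a : ℕ) : ZMod r) - (b : ℕ) = 0 ∨ ((a : ℕ) : ZMod r) + (b : ℕ) + 1 = 0 := by
        rw [← mul_eq_zero]; linear_combination h1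
      rcases h2 with h2 | h2
      · refine Fin.ext (Nat.ModEq.eq_of_lt_of_lt ((ZMod.natCast_eq_natCast_iff _ _ _).mp (sub_eq_zero.mp h2))
          (lt_of_lt_of_le a.2 ?_) (lt_of_lt_of_le b.2 ?_)) <;> omega
      · have h3 : (((a : ℕ) + b + 1 : ℕ) : ZMod r) = 0 := by push_cast; exact h2
        have h4 := (ZMod.natCast_eq_zero_iff _ _).mp h3
        have := a.2; have := b.2
        by_contra hab'
        have : (a : ℕ) + b + 1 < r := by
          have : (a : ℕ) ≠ b := fun h' => hab' (Fin.ext h')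
          omega
        have := Nat.eq_zero_of_dvd_of_lt h4 this
        omega
    refine Or.inr ?_
    have hsum := (finrank_le_sum_eigen C.r_prime hη hη1 (hr0 η hη hη1) hzr hWz).trans
      (Finset.sum_le_sum fun k _ => hk k)
    rw [show Finset.range r = Finset.range (h + 1 + h) by rw [hrh]; congr 1; omega, Finset.sum_range_add,
      Finset.sum_congr rfl fun j hj => hsym j (Finset.mem_range.mp hj), Finset.sum_range_reflect,
      ] at hsum
    have hmono : ∑ k ∈ Finset.range h, d k ≤ ∑ k ∈ Finset.range (h + 1), d k :=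
      Finset.sum_le_sum_of_subset (Finset.range_subset_range.mpr (by omega))
    calc r * finrank F W ≤ r * (∑ k ∈ Finset.range (h + 1), d k + ∑ k ∈ Finset.range (h + 1), d k) :=
          Nat.mul_le_mul_left r (hsum.trans (Nat.add_le_add_left hmono _))
      _ ≤ 2 * n := by rw [mul_add, two_mul]; exact Nat.add_le_add hhalf hhalf

/-- Involutions. -/
theorem two (hw : w = 2) (c : F) : 4 * finrank F (eigenspace (op g) c) ≤ 3 * n := by
  rcases eq_or_ne c 0 with rfl | hc
  · rw [show eigenspace (op g) (0 : F) = ⊥ from (Submodule.eq_bot_iff _).mpr fun u hu => op_injective g (by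
      rw [mem_eigenspace_iff.mp hu, zero_smul, map_zero]), finrank_bot, mul_zero]
    exact Nat.zero_le _
  obtain ⟨x, hx, hne⟩ := C.moved
  by_cases hs : ⁅g, x⁆ ∈ Z
  · have := C.shift hs hne c
    rw [hw] at this
    omega
  have h1 := translate_le (g := g) x hc
  have h2 := C.eig_le (C.tau_mem hx) hs (c := (1 : F)) one_ne_zero
  have h3 : finrank F (eigenspace (op g) c ⊓ eigenspace (op ⁅g, x⁆) 1 : Submodule F V) ≤
      finrank F (eigenspace (op ⁅g, x⁆) 1) := Submodule.finrank_mono inf_le_right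
  have h4 := Nat.mul_le_mul_right (finrank F (eigenspace (op ⁅g, x⁆) 1)) C.r_prime.two_le
  omega

/-- Odd prime order: half of the space, or `w = r` with the two bounds of `same`. -/
theorem odd (hw : Odd w) (c : F) :
    2 * finrank F (eigenspace (op g) c) ≤ n ∨ (w = r ∧ r ∣ n ∧
      (r * (r * finrank F (eigenspace (op g) c)) ≤ (2 * r - 1) * n ∨
        r * finrank F (eigenspace (op g) c) ≤ 2 * n)) := by
  rcases eq_or_ne c 0 with rfl | hc
  · rw [show eigenspace (op g) (0 : F) = ⊥ from (Submodule.eq_bot_iff _).mpr fun u hu => op_injective g (by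
      rw [mem_eigenspace_iff.mp hu, zero_smul, map_zero]), finrank_bot, mul_zero]
    exact Or.inl (Nat.zero_le _)
  by_cases hcl : ∀ x ∈ S, ⁅g, x⁆ ∈ Z → ⁅g, x⁆ = 1
  swap
  · simp only [not_forall, exists_prop] at hcl
    obtain ⟨x, -, hs, hne⟩ := hcl
    exact Or.inl ((Nat.mul_le_mul_right _ C.w_prime.two_le).trans (C.shift hs hne c))
  by_cases hwr : w = r
  · refine Or.inr ⟨hwr, ?_, C.same (hwr ▸ hw) hwr hcl hc⟩
    obtain ⟨y, hy, hys, -⟩ := C.exists_fixed hwr hcl
    obtain ⟨z, hz, hyz⟩ : ∃ z ∈ S, ⁅⁅g, y⁆, z⁆ ≠ 1 := by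
      by_contra h
      simp only [not_exists, not_and, not_not] at h
      exact hys (C.nondeg _ (C.tau_mem hy) h)
    obtain ⟨μ, hμ, hμ1, hμs⟩ := exists_root (C.comm _ (C.tau_mem hy) z hz) C.pos (C.comm_pow _ (C.tau_mem hy) z hz) hyz
    have hmat : ((⁅⁅g, y⁆, z⁆ : G) : Matrix (Fin n) (Fin n) F) = μ • 1 :=
      Matrix.toLin'.injective (LinearMap.ext fun u => by
        rw [map_smul, Matrix.toLin'_one]; exact hμs u)
    have hdet : Matrix.GeneralLinearGroup.det ⁅⁅g, y⁆, z⁆ = 1 := by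
      rw [map_commutatorElement]; exact commutatorElement_eq_one_iff_mul_comm.mpr (mul_comm _ _)
    have hμn : μ ^ n = μ ^ 0 := by
      have h := congrArg Units.val hdet
      rw [Matrix.GeneralLinearGroup.val_det_apply, hmat, Matrix.det_smul, Matrix.det_one, mul_one,
        Fintype.card_fin, Units.val_one] at h
      rw [h, pow_zero]
    exact Nat.modEq_zero_iff_dvd.mp ((root_pow_inj C.r_prime hμ hμ1).mp hμn)
  · left
    obtain ⟨x, hx, hne⟩ := C.exists_noncomm hw hwr hcl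
    have h1 := translate_le (g := g) x hc
    have h0 : eigenspace (op g) c ⊓ eigenspace (op ⁅g, x⁆) 1 = ⊥ := by
      rw [Submodule.eq_bot_iff]
      rintro v ⟨hv, hv1⟩
      set y := ⁅g, x⁆
      have e1 : op y v = v := by rw [mem_eigenspace_iff.mp hv1, one_smul]
      have e2 : op (g * y * g⁻¹) v = v := by
        have hgi : op g⁻¹ v = c⁻¹ • v := by
          have h := congrArg (op g⁻¹) (mem_eigenspace_iff.mp hv)
          rw [op_inv_self, map_smul] at h
          conv_rhs => rw [h, smul_smul, inv_mul_cancel₀ hc, one_smul]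
        rw [op_mul, op_mul, hgi, map_smul, map_smul, e1, mem_eigenspace_iff.mp hv, smul_smul, inv_mul_cancel₀ hc,
          one_smul]
      have e1' : op y⁻¹ v = v := by conv_lhs => rw [← e1, op_inv_self]
      have e2' : op (g * y * g⁻¹)⁻¹ v = v := by conv_lhs => rw [← e2, op_inv_self]
      obtain ⟨μ, -, hμ1, hμs⟩ := exists_root (C.comm _ (C.tau_mem hx) _ (C.conj _ (C.tau_mem hx))) C.pos
        (C.comm_pow _ (C.tau_mem hx) _ (C.conj _ (C.tau_mem hx))) hne
      have h := hμs v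
      rw [commutatorElement_def, op_mul, op_mul, op_mul, e2', e1', e2, e1] at h
      have h' : (μ - 1) • v = 0 := by rw [sub_smul, one_smul, ← h, sub_self]
      exact (smul_eq_zero.mp h').resolve_left (sub_ne_zero.mpr hμ1)
    rw [h0, finrank_bot, add_zero] at h1
    exact h1

end Ctx

end Cfsg.Agent.EigenBound
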